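import Mathlib.GroupTheory.Schreier
import Mathlib.GroupTheory.FiniteAbelian.Basic
import Mathlib.GroupTheory.Abelianization.Defs

/-! Baer: commutators of two normal subgroups with centralising finite index subgroups generate a finite group. -/

set_option autoImplicit false

universe u

open scoped Pointwise commutatorElement
open Subgroup

set_option linter.style.haveILetI false

namespace Groth.Agent.BaerComm26

variable {Q : Type u} [Group Q]

theorem finite_commutator (M N M₀ N₀ : Subgroup Q) [M.Normal] [N.Normal] (hM : M₀ ≤ M) (hN : N₀ ≤ N)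
    (hMi : M₀.relIndex M ≠ 0) (hNi : N₀.relIndex N ≠ 0)
    (h1 : ∀ a ∈ M₀, ∀ b ∈ N, a * b = b * a) (h2 : ∀ a ∈ M, ∀ b ∈ N₀, a * b = b * a) :
    Finite (⁅M, N⁆ : Subgroup Q) := by
  classical
  let c : M → N → Q := fun m n => ⁅(m : Q), (n : Q)⁆
  haveI : (M₀.subgroupOf M).FiniteIndex := ⟨hMi⟩
  haveI : (N₀.subgroupOf N).FiniteIndex := ⟨hNi⟩
  have hc : ∀ (m : M) (n : N) (a : M) (b : N), (a : Q) ∈ M₀ → (b : Q) ∈ N₀ → c (m * a) (n * b) = c m n := by
    intro m n a b ha hb
    have e1 : (a : Q) * ((n : Q) * b) = ((n : Q) * b) * a := h1 a ha _ (N.mul_mem n.2 b.2)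
    have e2 : (m : Q) * (b : Q) = (b : Q) * m := h2 m m.2 b hb
    have e1' : (a : Q) * ((n : Q) * b) * (a : Q)⁻¹ = (n : Q) * b := by rw [e1, mul_inv_cancel_right]
    have e2' : (b : Q) * (m : Q)⁻¹ * (b : Q)⁻¹ = (m : Q)⁻¹ := by
      rw [mul_inv_eq_iff_eq_mul, eq_inv_mul_iff_mul_eq, ← mul_assoc, e2, mul_inv_cancel_right]
    simp only [c, commutatorElement_def, Subgroup.coe_mul, _root_.mul_inv_rev]
    calc (m : Q) * a * ((n : Q) * b) * ((a : Q)⁻¹ * (m : Q)⁻¹) * ((b : Q)⁻¹ * (n : Q)⁻¹)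
        = (m : Q) * ((a : Q) * ((n : Q) * b) * (a : Q)⁻¹) * (m : Q)⁻¹ * (b : Q)⁻¹ * (n : Q)⁻¹ := by group
      _ = (m : Q) * (n : Q) * ((b : Q) * (m : Q)⁻¹ * (b : Q)⁻¹) * (n : Q)⁻¹ := by rw [e1']; group
      _ = (m : Q) * n * (m : Q)⁻¹ * (n : Q)⁻¹ := by rw [e2']
  let S : Set Q := Set.range fun p : (M ⧸ M₀.subgroupOf M) × (N ⧸ N₀.subgroupOf N) => c p.1.out p.2.out
  have hS : ∀ (m : M) (n : N), c m n ∈ S := fun m n => by
    obtain ⟨a, ha⟩ := QuotientGroup.mk_out_eq_mul (M₀.subgroupOf M) m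
    obtain ⟨b, hb⟩ := QuotientGroup.mk_out_eq_mul (N₀.subgroupOf N) n
    refine ⟨(QuotientGroup.mk m, QuotientGroup.mk n), ?_⟩
    simp only [ha, hb]
    exact hc m n a b a.2 b.2
  have hSfin : S.Finite := Set.finite_range _
  have hD : (⁅M, N⁆ : Subgroup Q) = Subgroup.closure S := by
    refine le_antisymm (Subgroup.commutator_le.2 fun m hm n hn => Subgroup.subset_closure (hS ⟨m, hm⟩ ⟨n, hn⟩))
      ((Subgroup.closure_le _).2 ?_)
    rintro _ ⟨⟨p, q⟩, rfl⟩
    exact Subgroup.commutator_mem_commutator p.out.2 q.out.2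
  set D : Subgroup Q := ⁅M, N⁆ with hDdef
  haveI : Group.FG D := (Group.fg_iff_subgroup_fg D).2 ⟨hSfin.toFinset, by rw [Set.Finite.coe_toFinset, hD]⟩
  have hDM : D ≤ M := Subgroup.commutator_le_left M N
  have hDN : D ≤ N := Subgroup.commutator_le_right M N
  let Z : Subgroup D := (M₀ ⊓ N₀).subgroupOf D
  have hZi : Z.index ≠ 0 := by
    have hM' : M₀.relIndex D ≠ 0 := fun h => hMi (Subgroup.relIndex_eq_zero_of_le_right hDM h)
    have hN' : N₀.relIndex D ≠ 0 := fun h => hNi (Subgroup.relIndex_eq_zero_of_le_right hDN h)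
    exact Subgroup.relIndex_inf_ne_zero hM' hN'
  have hcent : ∀ z : D, z ∈ Z → (∀ m ∈ M, (m : Q) * z = z * m) ∧ ∀ n ∈ N, (n : Q) * z = z * n := fun z hz =>
    ⟨fun m hm => h2 m hm _ hz.2, fun n hn => (h1 _ hz.1 n hn).symm⟩
  have hZc : Z ≤ Subgroup.center D := fun z hz => Subgroup.mem_center_iff.2 fun g =>
    Subtype.ext ((hcent z hz).1 g (hDM g.2))
  haveI : Z.FiniteIndex := ⟨hZi⟩
  haveI : Z.Normal := ⟨fun z hz g => by
    rw [Subgroup.mem_center_iff.1 (hZc hz) g, mul_inv_cancel_right]; exact hz⟩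
  haveI : (Subgroup.center D).FiniteIndex := Subgroup.finiteIndex_of_le hZc
  haveI : Finite (commutatorSet D) := by
    refine Set.finite_coe_iff.2 ((Set.finite_range
      fun p : (D ⧸ Subgroup.center D) × (D ⧸ Subgroup.center D) => ⁅p.1.out, p.2.out⁆).subset ?_)
    rintro _ ⟨g, h, rfl⟩
    obtain ⟨a, ha⟩ := QuotientGroup.mk_out_eq_mul (Subgroup.center D) g
    obtain ⟨b, hb⟩ := QuotientGroup.mk_out_eq_mul (Subgroup.center D) h
    refine ⟨(QuotientGroup.mk g, QuotientGroup.mk h), ?_⟩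
    have ea := Subgroup.mem_center_iff.1 a.2
    have eb := Subgroup.mem_center_iff.1 b.2
    simp only [ha, hb, commutatorElement_def, _root_.mul_inv_rev]
    have hia := Subgroup.mem_center_iff.1 ((Subgroup.center D).inv_mem a.2)
    calc g * (a : D) * (h * b) * ((a : D)⁻¹ * g⁻¹) * ((b : D)⁻¹ * h⁻¹)
        = g * ((a : D) * ((h * b) * (a : D)⁻¹)) * (g⁻¹ * ((b : D)⁻¹ * h⁻¹)) := by group
      _ = g * (h * b) * (g⁻¹ * ((b : D)⁻¹ * h⁻¹)) := by rw [hia, mul_inv_cancel_left]
      _ = g * h * ((b : D) * g⁻¹) * (b : D)⁻¹ * h⁻¹ := by group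
      _ = g * h * g⁻¹ * h⁻¹ := by rw [← eb]; group
  haveI : Finite (_root_.commutator D) := inferInstance
  let π : D →* Abelianization D := Abelianization.of
  have htors : ∀ (m : M) (n : N), IsOfFinOrder (π ⟨c m n, Subgroup.commutator_mem_commutator m.2 n.2⟩) := by
    intro m n
    let x : D := ⟨c m n, Subgroup.commutator_mem_commutator m.2 n.2⟩
    let e := Z.index
    let y : ℕ → D := fun j => ⟨c m (n ^ j), Subgroup.commutator_mem_commutator m.2 (n ^ j).2⟩
    have key : ∀ j, π (y j) ^ e = (π x ^ e) ^ j := by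
      intro j
      induction j with
      | zero =>
        have : y 0 = 1 := Subtype.ext (by simp [y, c, commutatorElement_def])
        rw [this, map_one, one_pow, pow_zero]
      | succ j ih =>
        have hmem : (n : Q) * (y j : Q) * (n : Q)⁻¹ ∈ D :=
          (inferInstance : D.Normal).conj_mem _ (y j).2 _
        have hsucc : y (j + 1) = x * ⟨_, hmem⟩ := Subtype.ext (by
          simp only [y, x, c, Subgroup.coe_mul, SubmonoidClass.coe_pow, commutatorElement_def, pow_succ']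
          group)
        have hpow : (⟨_, hmem⟩ : D) ^ e = y j ^ e := Subtype.ext (by
          rw [SubmonoidClass.coe_pow, SubmonoidClass.coe_pow]
          show ((n : Q) * (y j : Q) * (n : Q)⁻¹) ^ e = _
          rw [conj_pow, ← SubmonoidClass.coe_pow, (hcent _ (Subgroup.pow_index_mem Z (y j))).2 n n.2,
            mul_inv_cancel_right])
        rw [hsucc, map_mul, mul_pow, ← map_pow π (⟨_, hmem⟩ : D), hpow, map_pow, ih, pow_succ']
    obtain ⟨N', hN', -, hmem⟩ := Subgroup.exists_pow_mem_of_index_ne_zero (H := N₀.subgroupOf N) hNi n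
    have hy : y N' = 1 := Subtype.ext (by
      simp only [y, c, commutatorElement_def, OneMemClass.coe_one]
      have h3 : (m : Q) * ((n ^ N' : N) : Q) = ((n ^ N' : N) : Q) * m := h2 m m.2 _ hmem
      rw [h3, mul_inv_cancel_right, mul_inv_cancel])
    have h := key N'
    rw [hy, map_one, one_pow, ← pow_mul] at h
    exact isOfFinOrder_iff_pow_eq_one.2 ⟨e * N', Nat.mul_pos (Nat.pos_of_ne_zero hZi) hN', h.symm⟩
  haveI : Finite (Abelianization D) := by
    haveI : Group.FG (Abelianization D) := Group.fg_of_surjective (f := π) (QuotientGroup.mk_surjective)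
    refine CommGroup.finite_of_fg_isMulTorsion (Abelianization D) fun a => ?_
    obtain ⟨d, rfl⟩ := QuotientGroup.mk_surjective a
    change d ∈ (CommGroup.torsion (Abelianization D)).comap π
    suffices h : (⊤ : Subgroup D) ≤ (CommGroup.torsion (Abelianization D)).comap π from h (Subgroup.mem_top d)
    rw [← Subgroup.map_le_map_iff_of_injective D.subtype_injective]
    rw [← MonoidHom.range_eq_map, Subgroup.range_subtype]
    intro q hq
    rw [hD] at hq
    refine (Subgroup.closure_le _).2 ?_ hq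
    rintro _ ⟨⟨p, r⟩, rfl⟩
    exact ⟨⟨_, Subgroup.commutator_mem_commutator p.out.2 r.out.2⟩, htors p.out r.out, rfl⟩
  haveI : Finite (D ⧸ _root_.commutator D) := ‹Finite (Abelianization D)›
  exact Finite.of_subgroup_quotient (_root_.commutator D)

end Groth.Agent.BaerComm26
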